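import Cfsg.Agent.Lib.Helper53.Flavell.QPDim
import Cfsg.Agent.Lib.Helper66.FlavellFixDim
import Cfsg.Agent.Lib.Helper66.FlavellOrbCount
import Cfsg.Agent.Lib.Helper66.FlavellCommLower

/-!
# Flavell's `[QPLIN]`: the main inequality
-/

set_option autoImplicit false
set_option linter.unusedSectionVars false

namespace Cfsg.Agent.Lib.Helper53.Flavell

open Module
open scoped commutatorElement

theorem qp_lin {G : Type*} [Group G] {K : Type*} [Field K] {V : Type*} [AddCommGroup V]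
    [Module K V] [FiniteDimensional K V] (ρ : Representation K G V) {p : ℕ} [Fact p.Prime] (x : G)
    (hx : x ^ p = 1) (hρx : ρ x ≠ 1) (Z L C : Subgroup G) [Z.Normal] [L.Normal] (hZL : Z ≤ L)
    (hZ : ∀ z ∈ Z, ∃ c : K, ρ z = c • LinearMap.id) (hLL : ∀ l ∈ L, ∀ l' ∈ L, ⁅l, l'⁆ ∈ Z)
    (hnd : ∀ l ∈ L, (∀ l' ∈ L, ρ ⁅l, l'⁆ = 1) → l ∈ Z) (hinv : ((Z.relIndex L : ℕ) : K) ≠ 0)
    (hC : ∀ l, l ∈ C ↔ l ∈ L ∧ ⁅l, x⁆ ∈ Z) :
    p * Z.relIndex L * ((finrank K ↥(LinearMap.ker (ρ x - LinearMap.id))) ^ 2 + 1) ≤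
      (finrank K V) ^ 2 * (Z.relIndex L + (p - 1) * Z.relIndex C) := by
  classical
  have hV : Nontrivial V := by
    by_contra hV
    rw [not_nontrivial_iff_subsingleton] at hV
    apply hρx
    ext v
    exact Subsingleton.elim _ _
  have h : QPData ρ Z L := ⟨hZL, hZ, hLL, hnd⟩
  have hN0 : Z.relIndex L ≠ 0 := by
    intro h0
    apply hinv
    rw [h0, Nat.cast_zero]
  have hfi : (Z.subgroupOf L).FiniteIndex := ⟨hN0⟩
  have hfin : Finite (↥L ⧸ Z.subgroupOf L) := Subgroup.finite_quotient_of_finiteIndex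
  have hft : Fintype (↥L ⧸ Z.subgroupOf L) := Fintype.ofFinite _
  have hcardA : Fintype.card (↥L ⧸ Z.subgroupOf L) = Z.relIndex L := by
    rw [← Nat.card_eq_fintype_card]
    exact (Subgroup.index_eq_card _).symm
  have hN : (Fintype.card (↥L ⧸ Z.subgroupOf L) : K) ≠ 0 := by
    rw [hcardA]
    exact hinv
  have hind : iSupIndep (IsBichar.W h.act h.β) := h.isBichar.iSupIndep_W h.act hN
  have hsup : ⨆ b, IsBichar.W h.act h.β b = ⊤ := h.isBichar.iSup_W h.act hN
  set D := finrank K (IsBichar.W h.act h.β 1) with hD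
  have hdim : ∀ b, finrank K (IsBichar.W h.act h.β b) = D := h.finrank_W_eq
  -- `n ^ 2 = N * D`
  have hn2 : finrank K V ^ 2 = Z.relIndex L * D := by
    have hint := DirectSum.isInternal_submodule_of_iSupIndep_of_iSup_eq_top hind hsup
    have e := LinearEquiv.ofBijective (DirectSum.coeLinearMap (IsBichar.W h.act h.β)) hint
    have h1 := e.finrank_eq
    rw [Module.finrank_directSum, Module.finrank_linearMap] at h1
    rw [pow_two, ← h1, Finset.sum_congr rfl (fun b _ => hdim b), Finset.sum_const,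
      Finset.card_univ, hcardA, smul_eq_mul]
  -- the permutation
  have hσp : sigmaHom Z L x ^ p = 1 := by rw [← map_pow, hx, map_one]
  have hfix := Cfsg.Agent.Lib.Helper66.Flavell.finrank_ker_sub_one_le (Ad ρ x) (sigmaHom Z L x) (IsBichar.W h.act h.β)
    (h.map_W_le x) hind hsup D (fun b => (hdim b).le)
  have horb := Cfsg.Agent.Lib.Helper66.Flavell.prime_mul_card_orbits (sigmaHom Z L x) hσp
  have hcardA' : Nat.card (↥L ⧸ Z.subgroupOf L) = Z.relIndex L := (Subgroup.index_eq_card _).symm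
  rw [hcardA', card_fixed Z L x C hC] at horb
  have hcomm := Cfsg.Agent.Lib.Helper66.Flavell.sq_add_one_le_finrank_centralizer (ρ x) hρx
  have hle : finrank K ↥(LinearMap.ker (LinearMap.mulLeft K (ρ x) - LinearMap.mulRight K (ρ x))) ≤
      finrank K ↥(LinearMap.ker (Ad ρ x - LinearMap.id)) := by
    apply Submodule.finrank_mono
    intro S hS
    rw [LinearMap.mem_ker, LinearMap.sub_apply, LinearMap.mulLeft_apply, LinearMap.mulRight_apply,
      sub_eq_zero] at hS
    rw [LinearMap.mem_ker, LinearMap.sub_apply, LinearMap.id_apply, sub_eq_zero, Ad_apply, hS,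
      mul_assoc, rho_mul_inv, mul_one]
  set m := Nat.card (MulAction.orbitRel.Quotient (Subgroup.zpowers (sigmaHom Z L x))
    (↥L ⧸ Z.subgroupOf L)) with hm
  set c2 := (finrank K ↥(LinearMap.ker (ρ x - LinearMap.id))) ^ 2 + 1 with hc2
  calc p * Z.relIndex L * c2 ≤ p * Z.relIndex L * (D * m) :=
        Nat.mul_le_mul_left _ (le_trans hcomm (le_trans hle hfix))
    _ = (Z.relIndex L * D) * (p * m) := by ring
    _ = finrank K V ^ 2 * (Z.relIndex L + (p - 1) * Z.relIndex C) := by rw [hn2, horb]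

end Cfsg.Agent.Lib.Helper53.Flavell
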