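import Mathlib

/-!
# Fourier decomposition for a finite group with a nondegenerate bicharacter
-/

set_option autoImplicit false
set_option linter.unusedSectionVars false

namespace Cfsg.Agent.Lib.Helper53.Flavell

open Module

variable {A : Type*} [Group A] [Fintype A] [DecidableEq A] {K : Type*} [Field K] {E : Type*}
  [AddCommGroup E] [Module K E]

/-- the bicharacter hypotheses -/
structure IsBichar (β : A → A → K) : Prop where
  mul_left : ∀ a a' b, β (a * a') b = β a b * β a' b
  mul_right : ∀ a b b', β a (b * b') = β a b * β a b'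
  anti : ∀ a b, β a b * β b a = 1
  nondeg : ∀ a, a ≠ 1 → ∃ b, β a b ≠ 1

namespace IsBichar

variable {β : A → A → K} (hβ : IsBichar β)
include hβ

theorem ne_zero (a b : A) : β a b ≠ 0 := by
  intro h
  have := hβ.anti a b
  rw [h, zero_mul] at this
  exact zero_ne_one this

theorem one_left (b : A) : β 1 b = 1 := by
  have h := hβ.mul_left 1 1 b
  rw [mul_one] at h
  have h0 := hβ.ne_zero 1 b
  field_simp at h
  exact h.symm ▸ rfl

theorem one_right (a : A) : β a 1 = 1 := by
  have h := hβ.mul_right a 1 1
  rw [mul_one] at h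
  have h0 := hβ.ne_zero a 1
  field_simp at h
  exact h.symm ▸ rfl

theorem inv_right (a b : A) : β a b⁻¹ = β b a := by
  have h1 := hβ.mul_right a b b⁻¹
  rw [mul_inv_cancel, hβ.one_right] at h1
  have h2 := hβ.anti a b
  have h0 := hβ.ne_zero a b
  have : β a b * β a b⁻¹ = β a b * β b a := by rw [← h1, h2]
  exact mul_left_cancel₀ h0 this

/-- orthogonality: sum over the first variable -/
theorem sum_left (b : A) (hb : b ≠ 1) : ∑ a, β a b = 0 := by
  obtain ⟨a₀, ha₀⟩ : ∃ a₀, β a₀ b ≠ 1 := by
    obtain ⟨a₀, ha₀⟩ := hβ.nondeg b hb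
    refine ⟨a₀, fun h => ha₀ ?_⟩
    have := hβ.anti b a₀
    rw [h, mul_one] at this
    exact this
  have h1 : β a₀ b * ∑ a, β a b = ∑ a, β a b := by
    rw [Finset.mul_sum]
    rw [← Equiv.sum_comp (Equiv.mulLeft a₀) (fun a => β a b)]
    apply Finset.sum_congr rfl
    intro a _
    rw [Equiv.coe_mulLeft, hβ.mul_left]
  have h2 : (β a₀ b - 1) * ∑ a, β a b = 0 := by rw [sub_mul, one_mul, h1, sub_self]
  rcases mul_eq_zero.mp h2 with h | h
  · exact absurd (sub_eq_zero.mp h) ha₀
  · exact h

theorem sum_left_one : ∑ a : A, β a 1 = (Fintype.card A : K) := by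
  simp [hβ.one_right]

/-- orthogonality: sum over the second variable -/
theorem sum_right (a : A) (ha : a ≠ 1) : ∑ b, β a b = 0 := by
  have : ∑ b, β a b = ∑ b, β b a := by
    rw [← Equiv.sum_comp (Equiv.inv A) (fun b => β a b)]
    apply Finset.sum_congr rfl
    intro b _
    rw [Equiv.inv_apply, hβ.inv_right]
  rw [this]
  exact hβ.sum_left a ha

/-- the eigenspaces -/
def W (act : A →* Module.End K E) (β : A → A → K) (b : A) : Submodule K E where
  carrier := {S | ∀ a, act a S = β a b • S}
  add_mem' := by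
    intro S T hS hT a
    rw [map_add, hS a, hT a, smul_add]
  zero_mem' := by
    intro a
    rw [map_zero, smul_zero]
  smul_mem' := by
    intro c S hS a
    rw [map_smul, hS a, smul_comm]

theorem mem_W {act : A →* Module.End K E} {b : A} {S : E} :
    S ∈ W act β b ↔ ∀ a, act a S = β a b • S := Iff.rfl

/-- the Fourier projections -/
noncomputable def P (act : A →* Module.End K E) (β : A → A → K) (b : A) : E →ₗ[K] E :=
  ((Fintype.card A : K))⁻¹ • ∑ a, β b a • act a

theorem P_mem (act : A →* Module.End K E) (b : A) (S : E) : P act β b S ∈ W act β b := by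
  intro a'
  unfold P
  rw [LinearMap.smul_apply, map_smul, LinearMap.sum_apply, map_sum, smul_comm (β a' b)]
  congr 1
  rw [Finset.smul_sum]
  rw [← Equiv.sum_comp (Equiv.mulLeft a') (fun a => β a' b • (β b a • act a) S)]
  apply Finset.sum_congr rfl
  intro a _
  rw [Equiv.coe_mulLeft, LinearMap.smul_apply, map_smul, LinearMap.smul_apply, map_mul,
    Module.End.mul_apply, smul_smul, hβ.mul_right, ← mul_assoc, hβ.anti, one_mul]

theorem P_apply_of_mem (act : A →* Module.End K E) (hN : (Fintype.card A : K) ≠ 0) (b b' : A)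
    (S : E) (hS : S ∈ W act β b) : P act β b' S = if b = b' then S else 0 := by
  unfold P
  rw [LinearMap.smul_apply, LinearMap.sum_apply]
  have h1 : ∀ a, (β b' a • act a) S = β a (b'⁻¹ * b) • S := by
    intro a
    rw [LinearMap.smul_apply, hS a, smul_smul, hβ.mul_right, hβ.inv_right]
  rw [Finset.sum_congr rfl (fun a _ => h1 a), ← Finset.sum_smul]
  split_ifs with h
  · subst h
    rw [inv_mul_cancel, hβ.sum_left_one, smul_smul, inv_mul_cancel₀ hN, one_smul]
  · rw [hβ.sum_left _ (fun h0 => h (by rw [inv_mul_eq_one] at h0; exact h0.symm)), zero_smul,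
      smul_zero]

theorem sum_P (act : A →* Module.End K E) (hN : (Fintype.card A : K) ≠ 0) (S : E) :
    ∑ b, P act β b S = S := by
  unfold P
  simp only [LinearMap.smul_apply, LinearMap.sum_apply]
  rw [← Finset.smul_sum, Finset.sum_comm]
  have h1 : ∀ a, ∑ b, β b a • act a S = if a = 1 then (Fintype.card A : K) • S else 0 := by
    intro a
    rw [← Finset.sum_smul]
    split_ifs with h
    · subst h
      rw [hβ.sum_left_one, map_one, Module.End.one_apply]
    · rw [hβ.sum_left a h, zero_smul]
  rw [Finset.sum_congr rfl (fun a _ => h1 a), Finset.sum_ite_eq' Finset.univ (1 : A),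
    if_pos (Finset.mem_univ _), smul_smul, inv_mul_cancel₀ hN, one_smul]

theorem iSup_W (act : A →* Module.End K E) (hN : (Fintype.card A : K) ≠ 0) :
    ⨆ b, W act β b = ⊤ := by
  rw [eq_top_iff]
  intro S _
  rw [← hβ.sum_P act hN S]
  apply Submodule.sum_mem
  intro b _
  exact Submodule.mem_iSup_of_mem b (hβ.P_mem act b S)

theorem iSupIndep_W (act : A →* Module.End K E) (hN : (Fintype.card A : K) ≠ 0) :
    iSupIndep (W act β) := by
  intro b
  rw [Submodule.disjoint_def]
  intro S hS hS'
  have h1 : P act β b S = S := by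
    rw [hβ.P_apply_of_mem act hN b b S hS, if_pos rfl]
  have h2 : (⨆ (j : A) (_ : j ≠ b), W act β j) ≤ LinearMap.ker (P act β b) := by
    apply iSup_le
    intro j
    apply iSup_le
    intro hj T hT
    rw [LinearMap.mem_ker, hβ.P_apply_of_mem act hN j b T hT, if_neg hj]
  rw [← h1]
  exact LinearMap.mem_ker.mp (h2 hS')

end IsBichar

end Cfsg.Agent.Lib.Helper53.Flavell
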