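import Cfsg.Agent.Lib.Helper53.Flavell.QPQuot

/-!
# Flavell's `[QPLIN]`: dimensions of the pieces, fixed points of the conjugation
-/

set_option autoImplicit false
set_option linter.unusedSectionVars false

namespace Cfsg.Agent.Lib.Helper53.Flavell

open Module
open scoped commutatorElement

variable {G : Type*} [Group G] {K : Type*} [Field K] {V : Type*} [AddCommGroup V] [Module K V]

theorem finrank_le_of_mapsTo {E : Type*} [AddCommGroup E] [Module K E] [FiniteDimensional K E]
    (f : E →ₗ[K] E) (hf : Function.Injective f) (P Q : Submodule K E)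
    (hm : ∀ S ∈ P, f S ∈ Q) : finrank K P ≤ finrank K Q := by
  apply LinearMap.finrank_le_finrank_of_injective (f := f.restrict hm)
  intro a b hab
  apply Subtype.ext
  apply hf
  exact congrArg Subtype.val hab

section fixed

variable (Z L : Subgroup G) [Z.Normal] [L.Normal]

theorem sigmaHom_mk_eq_iff (x : G) (l : ↥L) :
    sigmaHom Z L x (QuotientGroup.mk l) = QuotientGroup.mk l ↔ ⁅(l : G), x⁆ ∈ Z := by
  rw [sigmaHom_mk, QuotientGroup.eq, Subgroup.mem_subgroupOf]
  have e : (((MulAut.conjNormal x l)⁻¹ * l : ↥L) : G) = (l : G)⁻¹ * ⁅(l : G), x⁆ * (l : G) := by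
    rw [Subgroup.coe_mul, Subgroup.coe_inv, MulAut.conjNormal_apply, commutatorElement_def]
    group
  rw [e]
  constructor
  · intro hl
    have := ‹Z.Normal›.conj_mem _ hl (l : G)
    simpa [mul_assoc] using this
  · intro hl
    have := ‹Z.Normal›.conj_mem _ hl (l : G)⁻¹
    simpa [mul_assoc] using this

theorem card_fixed (x : G) (C : Subgroup G) (hC : ∀ l, l ∈ C ↔ l ∈ L ∧ ⁅l, x⁆ ∈ Z) :
    Nat.card {a : ↥L ⧸ Z.subgroupOf L // sigmaHom Z L x a = a} = Z.relIndex C := by
  have hCL : C ≤ L := fun l hl => ((hC l).mp hl).1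
  have hset : ∀ a : ↥L ⧸ Z.subgroupOf L, sigmaHom Z L x a = a ↔
      a ∈ (C.subgroupOf L).map (QuotientGroup.mk' (Z.subgroupOf L)) := by
    intro a
    constructor
    · intro ha
      induction a using QuotientGroup.induction_on with
      | H l =>
        rw [sigmaHom_mk_eq_iff] at ha
        exact ⟨l, Subgroup.mem_subgroupOf.mpr ((hC l).mpr ⟨l.2, ha⟩), rfl⟩
    · rintro ⟨c, hc, rfl⟩
      rw [QuotientGroup.mk'_apply, sigmaHom_mk_eq_iff]
      exact ((hC c).mp (Subgroup.mem_subgroupOf.mp hc)).2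
  rw [Nat.card_congr (Equiv.subtypeEquivRight hset)]
  have h1 : Nat.card ↥((C.subgroupOf L).map (QuotientGroup.mk' (Z.subgroupOf L))) =
      (⊥ : Subgroup (↥L ⧸ Z.subgroupOf L)).relIndex
        ((C.subgroupOf L).map (QuotientGroup.mk' (Z.subgroupOf L))) :=
    (Subgroup.relIndex_bot_left _).symm
  have h2 := Subgroup.relIndex_comap (⊥ : Subgroup (↥L ⧸ Z.subgroupOf L))
    (QuotientGroup.mk' (Z.subgroupOf L)) (C.subgroupOf L)
  rw [MonoidHom.comap_bot, QuotientGroup.ker_mk', Subgroup.relIndex_subgroupOf hCL] at h2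
  exact h1.trans h2.symm

end fixed

namespace QPData

variable {ρ : Representation K G V} {Z L : Subgroup G} [Z.Normal] [L.Normal] [Nontrivial V]
  (h : QPData ρ Z L)
include h

theorem act_mul (a : ↥L ⧸ Z.subgroupOf L) (S T : Module.End K V) :
    h.act a (S * T) = h.act a S * h.act a T := by
  induction a using QuotientGroup.induction_on with
  | H l =>
    rw [h.act_mk, h.act_mk, h.act_mk]
    simp only [mul_assoc, h.rho_inv_mul_cancel_left]

theorem act_rho (l t : ↥L) : h.act (QuotientGroup.mk l) (ρ t) = h.β (QuotientGroup.mk l)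
    (QuotientGroup.mk t) • ρ t := by
  rw [h.act_mk, h.rho_conj, h.β_mk]

theorem mulLeft_mem (t : ↥L) (b : ↥L ⧸ Z.subgroupOf L) (S : Module.End K V)
    (hS : S ∈ IsBichar.W h.act h.β b) :
    ρ t * S ∈ IsBichar.W h.act h.β (QuotientGroup.mk t * b) := by
  intro a
  induction a using QuotientGroup.induction_on with
  | H l =>
    rw [h.act_mul, h.act_rho, hS, h.isBichar.mul_right, smul_mul_smul_comm]

theorem mulLeft_injective (g : G) :
    Function.Injective (LinearMap.mulLeft K (ρ g) : Module.End K V →ₗ[K] Module.End K V) := by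
  intro S T hST
  simp only [LinearMap.mulLeft_apply] at hST
  have := congrArg (fun X => ρ g⁻¹ * X) hST
  simpa only [h.rho_inv_mul_cancel_left] using this

theorem finrank_W_eq [FiniteDimensional K V] (b : ↥L ⧸ Z.subgroupOf L) :
    finrank K (IsBichar.W h.act h.β b) = finrank K (IsBichar.W h.act h.β 1) := by
  apply le_antisymm
  · apply finrank_le_of_mapsTo (LinearMap.mulLeft K (ρ ((b.out⁻¹ : ↥L) : G)))
      (h.mulLeft_injective _)
    intro S hS
    have := h.mulLeft_mem b.out⁻¹ b S hS
    rwa [QuotientGroup.mk_inv, QuotientGroup.out_eq', inv_mul_cancel] at this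
  · apply finrank_le_of_mapsTo (LinearMap.mulLeft K (ρ ((b.out : ↥L) : G)))
      (h.mulLeft_injective _)
    intro S hS
    have := h.mulLeft_mem b.out 1 S hS
    rwa [QuotientGroup.out_eq', mul_one] at this

end QPData

end Cfsg.Agent.Lib.Helper53.Flavell
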