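import Cfsg.Agent.Lib.Helper53.Flavell.QPSetup

/-!
# Flavell's `[QPLIN]`: the commutator pairing on `L`
-/

set_option autoImplicit false
set_option linter.unusedSectionVars false

namespace Cfsg.Agent.Lib.Helper53.Flavell

open Module
open scoped commutatorElement

variable {G : Type*} [Group G] {K : Type*} [Field K] {V : Type*} [AddCommGroup V] [Module K V]

/-- the hypotheses of `[QPLIN]` on `Z ≤ L` -/
structure QPData (ρ : Representation K G V) (Z L : Subgroup G) : Prop where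
  hZL : Z ≤ L
  hZ : ∀ z ∈ Z, ∃ c : K, ρ z = c • LinearMap.id
  hLL : ∀ l ∈ L, ∀ l' ∈ L, ⁅l, l'⁆ ∈ Z
  hnd : ∀ l ∈ L, (∀ l' ∈ L, ρ ⁅l, l'⁆ = 1) → l ∈ Z

namespace QPData

variable {ρ : Representation K G V} {Z L : Subgroup G} [Z.Normal] [L.Normal] [Nontrivial V]
  (h : QPData ρ Z L)
include h

theorem spec {z : G} (hz : z ∈ Z) : ρ z = sc ρ z • LinearMap.id := sc_spec ρ (h.hZ z hz)

theorem central {z : G} (hz : z ∈ Z) (S : Module.End K V) : ρ z * S = S * ρ z := by
  rw [h.spec hz]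
  ext v
  simp

theorem sc_mul {z w : G} (hz : z ∈ Z) (hw : w ∈ Z) : sc ρ (z * w) = sc ρ z * sc ρ w := by
  apply smul_id_injective (V := V)
  rw [← h.spec (Z.mul_mem hz hw), map_mul, h.spec hz, h.spec hw]
  ext v
  simp [mul_smul, smul_comm (sc ρ w)]

theorem sc_conj {z : G} (hz : z ∈ Z) (g : G) : sc ρ (g * z * g⁻¹) = sc ρ z := by
  apply smul_id_injective (V := V)
  have hz' : g * z * g⁻¹ ∈ Z := ‹Z.Normal›.conj_mem z hz g
  rw [← h.spec hz', ← h.spec hz, map_mul, map_mul, ← h.central hz, mul_assoc, rho_mul_inv,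
    mul_one]

theorem sc_one : sc ρ (1 : G) = 1 := by
  apply smul_id_injective (V := V)
  rw [← h.spec Z.one_mem, map_one, one_smul]
  rfl

/-- the commutator pairing -/
noncomputable def bL (_h : QPData ρ Z L) (l t : ↥L) : K := sc ρ ⁅(l : G), (t : G)⁆

theorem comm_mem (l t : ↥L) : ⁅(l : G), (t : G)⁆ ∈ Z := h.hLL l l.2 t t.2

theorem bL_spec (l t : ↥L) : ρ ⁅(l : G), (t : G)⁆ = h.bL l t • LinearMap.id := h.spec (h.comm_mem l t)

theorem bL_mul_left (l l' t : ↥L) : h.bL (l * l') t = h.bL l t * h.bL l' t := by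
  unfold bL
  have e : ⁅((l * l' : ↥L) : G), (t : G)⁆ =
      ((l : G) * ⁅(l' : G), (t : G)⁆ * (l : G)⁻¹) * ⁅(l : G), (t : G)⁆ := by
    rw [Subgroup.coe_mul]
    simp only [commutatorElement_def]
    group
  rw [e, h.sc_mul (‹Z.Normal›.conj_mem _ (h.comm_mem l' t) _) (h.comm_mem l t),
    h.sc_conj (h.comm_mem l' t), mul_comm]

theorem bL_mul_right (l t t' : ↥L) : h.bL l (t * t') = h.bL l t * h.bL l t' := by
  unfold bL
  have e : ⁅(l : G), ((t * t' : ↥L) : G)⁆ =
      ⁅(l : G), (t : G)⁆ * ((t : G) * ⁅(l : G), (t' : G)⁆ * (t : G)⁻¹) := by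
    rw [Subgroup.coe_mul]
    simp only [commutatorElement_def]
    group
  rw [e, h.sc_mul (h.comm_mem l t) (‹Z.Normal›.conj_mem _ (h.comm_mem l t') _),
    h.sc_conj (h.comm_mem l t')]

theorem bL_anti (l t : ↥L) : h.bL l t * h.bL t l = 1 := by
  unfold bL
  rw [← h.sc_mul (h.comm_mem l t) (h.comm_mem t l), ← commutatorElement_inv (t : G) (l : G),
    inv_mul_cancel, h.sc_one]

theorem bL_of_mem_left {z : ↥L} (hz : (z : G) ∈ Z) (t : ↥L) : h.bL z t = 1 := by
  unfold bL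
  apply smul_id_injective (V := V)
  rw [← h.spec (h.comm_mem z t), one_smul, commutatorElement_def, map_mul, map_mul, map_mul,
    h.central hz, mul_assoc (ρ t), rho_mul_inv, mul_one, rho_mul_inv]
  rfl

theorem bL_of_mem_right (l : ↥L) {z : ↥L} (hz : (z : G) ∈ Z) : h.bL l z = 1 := by
  have h1 := h.bL_anti l z
  rw [h.bL_of_mem_left hz, mul_one] at h1
  exact h1

theorem bL_nondeg (l : ↥L) (hl : (l : G) ∉ Z) : ∃ t : ↥L, h.bL l t ≠ 1 := by
  by_contra hcon
  push Not at hcon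
  apply hl
  apply h.hnd l l.2
  intro t ht
  have := h.bL_spec l ⟨t, ht⟩
  rw [hcon ⟨t, ht⟩, one_smul] at this
  exact this

theorem bL_conj (x : G) (l t : ↥L) :
    h.bL (MulAut.conjNormal x l) (MulAut.conjNormal x t) = h.bL l t := by
  unfold bL
  rw [MulAut.conjNormal_apply, MulAut.conjNormal_apply]
  have e : ⁅x * (l : G) * x⁻¹, x * (t : G) * x⁻¹⁆ = x * ⁅(l : G), (t : G)⁆ * x⁻¹ := by
    simp only [commutatorElement_def]
    group
  rw [e, h.sc_conj (h.comm_mem l t)]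

/-- conjugation in `End V` by `ρ l` on `ρ t` -/
theorem rho_conj (l t : ↥L) : ρ l * ρ t * ρ (l : G)⁻¹ = h.bL l t • ρ t := by
  have e : (l : G) * (t : G) * (l : G)⁻¹ = ⁅(l : G), (t : G)⁆ * (t : G) := by
    simp only [commutatorElement_def]
    group
  rw [← map_mul, ← map_mul, e, map_mul, h.bL_spec]
  ext v
  simp

end QPData

end Cfsg.Agent.Lib.Helper53.Flavell
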