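import Cfsg.Agent.Lib.Helper53.Flavell.QPPairing

/-!
# Flavell's `[QPLIN]`: the quotient `L / Z`, its bicharacter, its action on `End V`
-/

set_option autoImplicit false
set_option linter.unusedSectionVars false

namespace Cfsg.Agent.Lib.Helper53.Flavell

open Module
open scoped commutatorElement

variable {G : Type*} [Group G] {K : Type*} [Field K] {V : Type*} [AddCommGroup V] [Module K V]

section sigma

variable (Z L : Subgroup G) [Z.Normal] [L.Normal]

theorem map_conjNormal (x : G) :
    (Z.subgroupOf L).map ((MulAut.conjNormal x : ↥L ≃* ↥L) : ↥L →* ↥L) = Z.subgroupOf L := by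
  rw [Subgroup.map_equiv_eq_comap_symm]
  ext l
  rw [Subgroup.mem_comap, Subgroup.mem_subgroupOf, Subgroup.mem_subgroupOf]
  show (((MulAut.conjNormal x).symm l : ↥L) : G) ∈ Z ↔ (l : G) ∈ Z
  rw [MulAut.conjNormal_symm_apply]
  constructor
  · intro hl
    have := ‹Z.Normal›.conj_mem _ hl x
    simpa [mul_assoc] using this
  · intro hl
    have := ‹Z.Normal›.conj_mem _ hl x⁻¹
    simpa [mul_assoc] using this

/-- conjugation by `x` on `L / Z` -/
noncomputable def sigmaHom : G →* Equiv.Perm (↥L ⧸ Z.subgroupOf L) where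
  toFun x := (QuotientGroup.congr _ _ (MulAut.conjNormal x) (map_conjNormal Z L x)).toEquiv
  map_one' := by
    ext a
    induction a using QuotientGroup.induction_on
    simp
  map_mul' x y := by
    ext a
    induction a using QuotientGroup.induction_on
    simp [map_mul]

theorem sigmaHom_mk (x : G) (l : ↥L) :
    sigmaHom Z L x (QuotientGroup.mk l) = QuotientGroup.mk (MulAut.conjNormal x l) := by
  simp [sigmaHom]

end sigma

namespace QPData

variable {ρ : Representation K G V} {Z L : Subgroup G} [Z.Normal] [L.Normal] [Nontrivial V]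
  (h : QPData ρ Z L)
include h

/-- the bicharacter on `L / Z` -/
noncomputable def β (h : QPData ρ Z L) (a b : ↥L ⧸ Z.subgroupOf L) : K := h.bL a.out b.out

theorem bL_out (l t : ↥L) :
    h.bL (QuotientGroup.mk l : ↥L ⧸ Z.subgroupOf L).out
      (QuotientGroup.mk t : ↥L ⧸ Z.subgroupOf L).out = h.bL l t := by
  obtain ⟨z, hz⟩ := QuotientGroup.mk_out_eq_mul (Z.subgroupOf L) l
  obtain ⟨w, hw⟩ := QuotientGroup.mk_out_eq_mul (Z.subgroupOf L) t
  have hz' : ((z : ↥L) : G) ∈ Z := Subgroup.mem_subgroupOf.mp z.2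
  have hw' : ((w : ↥L) : G) ∈ Z := Subgroup.mem_subgroupOf.mp w.2
  rw [hz, hw, h.bL_mul_left, h.bL_mul_right, h.bL_mul_right, h.bL_of_mem_left hz',
    h.bL_of_mem_left hz', h.bL_of_mem_right _ hw', mul_one, mul_one, mul_one]

theorem β_mk (l t : ↥L) : h.β (QuotientGroup.mk l) (QuotientGroup.mk t) = h.bL l t :=
  h.bL_out l t

theorem isBichar : IsBichar h.β where
  mul_left a a' b := by
    induction a using QuotientGroup.induction_on
    induction a' using QuotientGroup.induction_on
    induction b using QuotientGroup.induction_on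
    rw [← QuotientGroup.mk_mul, h.β_mk, h.β_mk, h.β_mk, h.bL_mul_left]
  mul_right a b b' := by
    induction a using QuotientGroup.induction_on
    induction b using QuotientGroup.induction_on
    induction b' using QuotientGroup.induction_on
    rw [← QuotientGroup.mk_mul, h.β_mk, h.β_mk, h.β_mk, h.bL_mul_right]
  anti a b := by
    induction a using QuotientGroup.induction_on
    induction b using QuotientGroup.induction_on
    rw [h.β_mk, h.β_mk, h.bL_anti]
  nondeg a ha := by
    induction a using QuotientGroup.induction_on with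
    | H l =>
      have hl : (l : G) ∉ Z := by
        intro hl
        apply ha
        rw [QuotientGroup.eq_one_iff]
        exact Subgroup.mem_subgroupOf.mpr hl
      obtain ⟨t, ht⟩ := h.bL_nondeg l hl
      exact ⟨QuotientGroup.mk t, by rw [h.β_mk]; exact ht⟩

/-- the action of `L / Z` on `End V` -/
noncomputable def act (h : QPData ρ Z L) :
    (↥L ⧸ Z.subgroupOf L) →* Module.End K (Module.End K V) :=
  QuotientGroup.lift (Z.subgroupOf L) ((Ad ρ).comp L.subtype) (by
    intro z hz
    rw [MonoidHom.mem_ker, MonoidHom.comp_apply]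
    have hz' : ((z : ↥L) : G) ∈ Z := Subgroup.mem_subgroupOf.mp hz
    apply LinearMap.ext
    intro S
    rw [Subgroup.coe_subtype, Ad_apply, h.central hz', mul_assoc, rho_mul_inv, mul_one]
    rfl)

theorem act_mk (l : ↥L) (S : Module.End K V) :
    h.act (QuotientGroup.mk l) S = ρ l * S * ρ (l : G)⁻¹ := by
  unfold act
  rw [QuotientGroup.lift_mk, MonoidHom.comp_apply, Subgroup.coe_subtype, Ad_apply]

theorem β_sigma (x : G) (a b : ↥L ⧸ Z.subgroupOf L) :
    h.β (sigmaHom Z L x a) (sigmaHom Z L x b) = h.β a b := by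
  induction a using QuotientGroup.induction_on
  induction b using QuotientGroup.induction_on
  rw [sigmaHom_mk, sigmaHom_mk, h.β_mk, h.β_mk, h.bL_conj]

theorem rho_inv_mul_cancel_left (g : G) (T : Module.End K V) : ρ g⁻¹ * (ρ g * T) = T := by
  rw [← mul_assoc, rho_inv_mul, one_mul]

theorem act_sigma (x : G) (a : ↥L ⧸ Z.subgroupOf L) (S : Module.End K V) :
    h.act (sigmaHom Z L x a) (Ad ρ x S) = Ad ρ x (h.act a S) := by
  induction a using QuotientGroup.induction_on with
  | H l =>
    rw [sigmaHom_mk, h.act_mk, h.act_mk, Ad_apply, Ad_apply, MulAut.conjNormal_apply]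
    have e1 : ρ (x * (l : G) * x⁻¹) = ρ x * ρ l * ρ x⁻¹ := by rw [map_mul, map_mul]
    have e2 : ρ (x * (l : G) * x⁻¹)⁻¹ = ρ x * ρ (l : G)⁻¹ * ρ x⁻¹ := by
      rw [mul_inv_rev, mul_inv_rev, inv_inv, map_mul, map_mul, mul_assoc]
    rw [e1, e2]
    simp only [mul_assoc, h.rho_inv_mul_cancel_left]

theorem map_W_le (x : G) (b : ↥L ⧸ Z.subgroupOf L) :
    (IsBichar.W h.act h.β b).map (Ad ρ x) ≤ IsBichar.W h.act h.β (sigmaHom Z L x b) := by
  rintro T ⟨S, hS, rfl⟩
  intro a
  obtain ⟨a', rfl⟩ : ∃ a', sigmaHom Z L x a' = a := ⟨(sigmaHom Z L x).symm a, by simp⟩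
  rw [h.act_sigma, hS a', map_smul, h.β_sigma]

end QPData

end Cfsg.Agent.Lib.Helper53.Flavell
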