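import Cfsg.Agent.Lib.Helper53.Flavell.Fourier

/-!
# Flavell's `[QPLIN]`: set-up (adjoint action, scalars, the commutator pairing)
-/

set_option autoImplicit false
set_option linter.unusedSectionVars false

namespace Cfsg.Agent.Lib.Helper53.Flavell

open Module
open scoped commutatorElement

variable {G : Type*} [Group G] {K : Type*} [Field K] {V : Type*} [AddCommGroup V] [Module K V]

section adjoint

variable (ρ : Representation K G V)

theorem rho_mul_inv (g : G) : ρ g * ρ g⁻¹ = 1 := by
  rw [← map_mul, mul_inv_cancel, map_one]

theorem rho_inv_mul (g : G) : ρ g⁻¹ * ρ g = 1 := by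
  rw [← map_mul, inv_mul_cancel, map_one]

/-- the adjoint action on `End V` -/
def Ad : G →* Module.End K (Module.End K V) where
  toFun g := LinearMap.mulLeft K (ρ g) ∘ₗ LinearMap.mulRight K (ρ g⁻¹)
  map_one' := by
    ext S
    simp
  map_mul' g h := by
    apply LinearMap.ext
    intro S
    simp only [LinearMap.coe_comp, Function.comp_apply, LinearMap.mulLeft_apply,
      LinearMap.mulRight_apply, Module.End.mul_apply, mul_inv_rev, map_mul]
    simp only [mul_assoc]

theorem Ad_apply (g : G) (S : Module.End K V) : Ad ρ g S = ρ g * S * ρ g⁻¹ := by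
  simp [Ad, mul_assoc]

end adjoint

section scalars

variable (ρ : Representation K G V)

open Classical in
/-- the scalar by which `ρ z` acts (if it does) -/
noncomputable def sc (z : G) : K :=
  if h : ∃ c : K, ρ z = c • LinearMap.id then h.choose else 1

theorem sc_spec {z : G} (h : ∃ c : K, ρ z = c • LinearMap.id) : ρ z = sc ρ z • LinearMap.id := by
  unfold sc
  rw [dif_pos h]
  exact h.choose_spec

theorem smul_id_injective [Nontrivial V] {c c' : K}
    (h : c • (LinearMap.id : V →ₗ[K] V) = c' • LinearMap.id) : c = c' := by
  obtain ⟨v, hv⟩ := exists_ne (0 : V)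
  have := LinearMap.congr_fun h v
  simp only [LinearMap.smul_apply, LinearMap.id_apply] at this
  exact smul_left_injective K hv this

end scalars

end Cfsg.Agent.Lib.Helper53.Flavell
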